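import Groth.Prelude.Def_W4c2brnrinvarInvFld
import Mathlib

/-!
# Invariant frames for semilinear actions on rational function fields
-/

set_option autoImplicit false

open MvPolynomial

noncomputable section

namespace Groth.Misc10.InvFld

variable {k M L F G : Type*} [Field k] [Field M] [Field L] [Field F]
  [Algebra k M] [Algebra k L] [Algebra M L] [Algebra F M] [Algebra F L] [IsScalarTower F M L]
  [Group G] [Finite G] (ρ : G →* (L ≃ₐ[k] L)) (μ : G →* (M ≃ₐ[k] M))

/-- Fixed vectors of a faithful semilinear action span the stable subspace. -/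
theorem span_fixed_eq (hcompat : ∀ g a, ρ g (algebraMap M L a) = algebraMap M L (μ g a))
    (hμ : Function.Injective μ) (V : Submodule M L) (hV : ∀ g, ∀ v ∈ V, ρ g v ∈ V) :
    Submodule.span M {v | v ∈ V ∧ ∀ g, ρ g v = v} = V := by
  classical
  cases nonempty_fintype G
  refine le_antisymm (Submodule.span_le.2 fun v hv => hv.1) fun v hv => ?_
  by_contra hn
  obtain ⟨f, hfv, hf⟩ := Submodule.exists_dual_map_eq_bot_of_notMem hn inferInstance
  have hzero : ∀ a : M, ∑ g : G, f (ρ g v) * μ g a = 0 := fun a => by
    have hw : (∑ g : G, ρ g (a • v)) ∈ Submodule.span M {v | v ∈ V ∧ ∀ g, ρ g v = v} :=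
      Submodule.subset_span ⟨V.sum_mem fun g _ => hV g _ (V.smul_mem a hv), fun h => by
        rw [map_sum]
        refine Fintype.sum_equiv (Equiv.mulLeft h) _ _ fun g => ?_
        rw [Equiv.coe_mulLeft, map_mul]
        rfl⟩
    have h := Submodule.mem_map_of_mem (f := f) hw
    rw [hf, Submodule.mem_bot, map_sum] at h
    rw [← h]
    refine Finset.sum_congr rfl fun g _ => ?_
    rw [Algebra.smul_def, map_mul, hcompat, ← Algebra.smul_def, map_smul, smul_eq_mul, mul_comm]
  have hind := (linearIndependent_monoidHom M M).comp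
    (fun g : G => ((μ g : M ≃ₐ[k] M) : M →* M))
    (fun g g' h => hμ (AlgEquiv.ext fun x => DFunLike.congr_fun h x))
  have h1 := Fintype.linearIndependent_iff.1 hind (fun g => f (ρ g v)) (funext fun x => by
    simpa using hzero x) 1
  rw [map_one] at h1
  exact hfv h1

/-- A faithful semilinear action on a rational function field has an invariant frame of variables. -/
theorem exists_frame (hcompat : ∀ g a, ρ g (algebraMap M L a) = algebraMap M L (μ g a))
    (hμ : Function.Injective μ) (hF : ∀ a, a ∈ Set.range (algebraMap F M) ↔ ∀ g, μ g a = a)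
    {m : ℕ} (y : Fin m → L) (hy : AlgebraicIndependent M y)
    (hgen : IntermediateField.adjoin M (Set.range y) = ⊤)
    (hspan : ∀ g i, ρ g (y i) ∈ Submodule.span M (Set.range y)) :
    ∃ φ : _root_.InvFld.Fld (Fin m) F →ₐ[F] L, ∀ a, a ∈ Set.range φ ↔ ∀ g, ρ g a = a := by
  classical
  cases nonempty_fintype G
  let V := Submodule.span M (Set.range y)
  have hV : ∀ g, ∀ v ∈ V, ρ g v ∈ V := fun g v hv => by
    induction hv using Submodule.span_induction with
    | mem x hx => obtain ⟨i, rfl⟩ := hx; exact hspan g i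
    | zero => simp
    | add x x' _ _ hx hx' => rw [map_add]; exact V.add_mem hx hx'
    | smul a x _ hx =>
      rw [Algebra.smul_def, map_mul, hcompat, ← Algebra.smul_def]
      exact V.smul_mem _ hx
  obtain ⟨b, hbS, hbspan, hbli⟩ := exists_linearIndependent M {v | v ∈ V ∧ ∀ g, ρ g v = v}
  rw [span_fixed_eq ρ μ hcompat hμ V hV] at hbspan
  have : Module.Finite M V := Module.Finite.span_of_finite M (Set.finite_range y)
  have hbfin : Finite b := (LinearIndependent.of_comp V.subtype
    (v := fun x : b => (⟨x, (hbS x.2).1⟩ : V)) hbli).finite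
  have := Fintype.ofFinite b
  have hcard : Fintype.card b = m := by
    have h₁ := finrank_span_eq_card hbli
    have h₂ := finrank_span_eq_card hy.linearIndependent
    rw [Subtype.range_coe, hbspan] at h₁
    rw [Fintype.card_fin] at h₂
    exact h₁.symm.trans h₂
  let e : Fin m ≃ b := (Fintype.equivFinOfCardEq hcard).symm
  let z : Fin m → L := fun i => e i
  have hzfix : ∀ g i, ρ g (z i) = z i := fun g i => (hbS (e i).2).2 g
  have hzrange : Set.range z = b := by
    ext x; exact ⟨fun ⟨i, h⟩ => h ▸ (e i).2, fun h => ⟨e.symm ⟨x, h⟩, by simp [z]⟩⟩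
  have hzli : LinearIndependent M z := hbli.comp e e.injective
  have hA : ∀ i, ∃ c : Fin m → M, ∑ j, c j • y j = z i := fun i =>
    Submodule.mem_span_range_iff_exists_fun M |>.1 ((hbS (e i).2).1)
  have hB : ∀ i, ∃ c : Fin m → M, ∑ j, c j • z j = y i := fun i => by
    refine Submodule.mem_span_range_iff_exists_fun M |>.1 ?_
    rw [hzrange, hbspan]
    exact Submodule.subset_span ⟨i, rfl⟩
  choose A hA using hA
  choose B hB using hB
  let s : MvPolynomial (Fin m) M →ₐ[M] MvPolynomial (Fin m) M := aeval fun i => ∑ j, A i j • X j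
  let t : MvPolynomial (Fin m) M →ₐ[M] MvPolynomial (Fin m) M := aeval fun i => ∑ j, B i j • X j
  have hs : (aeval y).comp s = aeval z := MvPolynomial.algHom_ext fun i => by simp [s, hA]
  have ht : (aeval z).comp t = aeval y := MvPolynomial.algHom_ext fun i => by simp [t, hB]
  have hts : t.comp s = AlgHom.id M _ := MvPolynomial.algHom_ext fun i => by
    have h : aeval z (t (s (X i))) = z i := by
      rw [← AlgHom.comp_apply, ht, ← AlgHom.comp_apply, hs, aeval_X]
    have hlin : t (s (X i)) ∈ Submodule.span M (Set.range fun j : Fin m => (X j : MvPolynomial (Fin m) M)) := by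
      simp only [s, t, aeval_X, map_sum, map_smul]
      exact Submodule.sum_mem _ fun j _ => Submodule.smul_mem _ _ (Submodule.sum_mem _ fun l _ =>
        Submodule.smul_mem _ _ (Submodule.subset_span ⟨l, rfl⟩))
    obtain ⟨c, hc⟩ := (Submodule.mem_span_range_iff_exists_fun M).1 hlin
    rw [← hc, map_sum] at h
    simp only [map_smul, aeval_X] at h
    have hcz := Fintype.linearIndependent_iff.1 hzli (c - Pi.single i 1) (by
      simp [sub_smul, Finset.sum_sub_distrib, h, Pi.single_apply])
    have hci : c = Pi.single i 1 := funext fun j => sub_eq_zero.1 (hcz j)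
    rw [AlgHom.comp_apply, AlgHom.id_apply, ← hc, hci]
    simp [Pi.single_apply]
  have hz : AlgebraicIndependent M z := by
    rw [algebraicIndependent_iff_injective_aeval, ← hs, AlgHom.coe_comp]
    exact (algebraicIndependent_iff_injective_aeval.1 hy).comp
      (Function.LeftInverse.injective (g := t) fun p => AlgHom.congr_fun hts p)
  have hzgen : IntermediateField.adjoin M (Set.range z) = ⊤ := by
    rw [eq_top_iff, ← hgen, IntermediateField.adjoin_le_iff]
    rintro _ ⟨i, rfl⟩
    rw [← hB i]
    exact sum_mem fun j _ =>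
      IntermediateField.smul_mem _ (IntermediateField.subset_adjoin M (Set.range z) (Set.mem_range_self j))
  have hzF : AlgebraicIndependent F z := hz.restrictScalars (algebraMap F M).injective
  have hinj := algebraicIndependent_iff_injective_aeval.1 hzF
  let φ : _root_.InvFld.Fld (Fin m) F →ₐ[F] L := IsFractionRing.liftAlgHom hinj
  have hφ : ∀ p, φ (algebraMap (MvPolynomial (Fin m) F) _ p) = aeval z p := fun p => by simp [φ]
  have hρF : ∀ g (c : F), ρ g (algebraMap F L c) = algebraMap F L c := fun g c => by
    rw [IsScalarTower.algebraMap_apply F M L, hcompat, (hF _).1 ⟨c, rfl⟩ g]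
  have hmapM : ∀ g (p : MvPolynomial (Fin m) M),
      ρ g (aeval z p) = aeval z (map (μ g : M →+* M) p) := fun g p => by
    induction p using MvPolynomial.induction_on with
    | C a => simp [hcompat]
    | add p q hp hq => simp [hp, hq]
    | mul_X p i hp => simp [hp, hzfix]
  have hmapF : ∀ g (p : MvPolynomial (Fin m) F), ρ g (aeval z p) = aeval z p := fun g p => by
    induction p using MvPolynomial.induction_on with
    | C a => simp [hρF]
    | add p q hp hq => simp [hp, hq]
    | mul_X p i hp => simp [hp, hzfix]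
  refine ⟨φ, fun a => ⟨?_, fun ha => ?_⟩⟩
  · rintro ⟨x, rfl⟩ g
    obtain ⟨p, q, -, rfl⟩ := IsFractionRing.div_surjective (MvPolynomial (Fin m) F) x
    simp only [map_div₀, hφ, hmapF]
  have hmem : a ∈ IntermediateField.adjoin M (Set.range z) := hzgen ▸ IntermediateField.mem_top
  obtain ⟨p, q, rfl⟩ := (IntermediateField.mem_adjoin_range_iff M z a).1 hmem
  rcases eq_or_ne q 0 with rfl | hq
  · exact ⟨0, by simp⟩
  let Q : MvPolynomial (Fin m) M := ∏ g : G, map (μ g : M →+* M) q
  let P : MvPolynomial (Fin m) M := p * ∏ g ∈ Finset.univ.erase (1 : G), map (μ g : M →+* M) q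
  have hQ : Q = q * ∏ g ∈ Finset.univ.erase (1 : G), map (μ g : M →+* M) q := by
    simp only [Q]
    rw [← Finset.mul_prod_erase _ _ (Finset.mem_univ (1 : G))]
    congr 1
    rw [map_one μ]
    exact MvPolynomial.map_id q
  have hQ0 : Q ≠ 0 := Finset.prod_ne_zero_iff.2 fun g _ => by
    rw [ne_eq, map_eq_zero_iff _ (MvPolynomial.map_injective _ (μ g).injective)]
    exact hq
  have hQfix : ∀ h, map (μ h : M →+* M) Q = Q := fun h => by
    simp only [Q, map_prod]
    refine Fintype.prod_equiv (Equiv.mulLeft h) _ _ fun g => ?_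
    rw [MvPolynomial.map_map, Equiv.coe_mulLeft, map_mul μ]
    rfl
  have haQ : aeval z p / aeval z q = aeval z P / aeval z Q := by
    rw [hQ]
    simp only [P, map_mul]
    rw [mul_div_mul_right]
    intro h0
    apply hQ0
    apply algebraicIndependent_iff_injective_aeval.1 hz
    rw [hQ, map_mul, h0, mul_zero, map_zero]
  have hQz : aeval z Q ≠ 0 := fun h0 =>
    hQ0 ((algebraicIndependent_iff_injective_aeval.1 hz) (h0.trans (map_zero _).symm))
  have hPfix : ∀ h, map (μ h : M →+* M) P = P := fun h => by
    apply algebraicIndependent_iff_injective_aeval.1 hz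
    have h1 := ha h
    rw [haQ, map_div₀, hmapM, hmapM, hQfix, div_left_inj' hQz] at h1
    exact h1
  have hdesc : ∀ R : MvPolynomial (Fin m) M, (∀ h, map (μ h : M →+* M) R = R) →
      ∃ r : MvPolynomial (Fin m) F, map (algebraMap F M) r = R := fun R hR => by
    rw [← Set.mem_range, mem_range_map_iff_coeffs_subset]
    intro c hc
    obtain ⟨d, -, rfl⟩ := MvPolynomial.mem_coeffs_iff.1 hc
    exact (hF _).2 fun h => by
      have := congrArg (coeff d) (hR h)
      rwa [coeff_map] at this
  obtain ⟨P', hP'⟩ := hdesc P hPfix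
  obtain ⟨Q', hQ'⟩ := hdesc Q hQfix
  refine ⟨algebraMap _ _ P' / algebraMap _ _ Q', ?_⟩
  rw [map_div₀, hφ, hφ, haQ, ← hP', ← hQ', aeval_map_algebraMap, aeval_map_algebraMap]

end Groth.Misc10.InvFld
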