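import Groth.Agent.Misc10.InvFld.Frame

/-!
# Linear groups of automorphisms of rational function fields
-/

set_option autoImplicit false

open MvPolynomial

noncomputable section

namespace Groth.Misc10.InvFld

variable {k : Type*} [Field k] {α β : Type*}

/-- The automorphisms sending each variable to a linear form. -/
def IsLinearHom {G : Type*} [Group G]
    (f : G →* (_root_.InvFld.Fld α k ≃ₐ[k] _root_.InvFld.Fld α k)) : Prop :=
  ∀ g i, f g (_root_.InvFld.X i) ∈
    Submodule.span k (Set.range fun j : α => (_root_.InvFld.X j : _root_.InvFld.Fld α k))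

theorem exists_linForm {G : Type*} [Group G]
    {f : G →* (_root_.InvFld.Fld α k ≃ₐ[k] _root_.InvFld.Fld α k)} (hf : IsLinearHom f) (g : G) (i : α) :
    ∃ l ∈ Submodule.span k (Set.range fun j : α => (X j : MvPolynomial α k)),
      algebraMap (MvPolynomial α k) (_root_.InvFld.Fld α k) l = f g (_root_.InvFld.X i) := by
  have h := hf g i
  rw [show (fun j : α => (_root_.InvFld.X j : _root_.InvFld.Fld α k)) =
      IsScalarTower.toAlgHom k (MvPolynomial α k) (_root_.InvFld.Fld α k) ∘ fun j => X j from rfl,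
    Set.range_comp] at h
  erw [← Submodule.map_span (IsScalarTower.toAlgHom k (MvPolynomial α k)
    (_root_.InvFld.Fld α k)).toLinearMap] at h
  obtain ⟨l, hl, hl'⟩ := h
  exact ⟨l, hl, hl'⟩

/-- A group of linear automorphisms acts on polynomials. -/
theorem exists_polyHom {G : Type*} [Group G]
    {f : G →* (_root_.InvFld.Fld α k ≃ₐ[k] _root_.InvFld.Fld α k)} (hf : IsLinearHom f) :
    ∃ p : G →* (MvPolynomial α k ≃ₐ[k] MvPolynomial α k),
      (∀ g q, algebraMap _ (_root_.InvFld.Fld α k) (p g q) = f g (algebraMap _ _ q)) ∧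
      ∀ g i, p g (X i) ∈ Submodule.span k (Set.range fun j : α => (X j : MvPolynomial α k)) := by
  choose l hl hl' using exists_linForm hf
  let p₀ : G → (MvPolynomial α k →ₐ[k] MvPolynomial α k) := fun g => aeval (l g)
  have hp : ∀ g q, algebraMap _ (_root_.InvFld.Fld α k) (p₀ g q) = f g (algebraMap _ _ q) := fun g q => by
    have h : (IsScalarTower.toAlgHom k (MvPolynomial α k) (_root_.InvFld.Fld α k)).comp (p₀ g) =
        ((f g).toAlgHom).comp (IsScalarTower.toAlgHom k (MvPolynomial α k) (_root_.InvFld.Fld α k)) :=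
      MvPolynomial.algHom_ext fun i => by simpa [p₀] using hl' g i
    exact AlgHom.congr_fun h q
  have hinj := IsFractionRing.injective (MvPolynomial α k) (_root_.InvFld.Fld α k)
  have hone : p₀ 1 = AlgHom.id k _ := AlgHom.ext fun q => hinj (by rw [hp, map_one]; rfl)
  have hmul : ∀ g h, p₀ (g * h) = (p₀ g).comp (p₀ h) := fun g h => AlgHom.ext fun q => hinj (by
    rw [AlgHom.comp_apply, hp, hp, hp, map_mul]; rfl)
  let pe : G → (MvPolynomial α k ≃ₐ[k] MvPolynomial α k) := fun g =>
    AlgEquiv.ofAlgHom (p₀ g) (p₀ g⁻¹) (by rw [← hmul, mul_inv_cancel, hone])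
      (by rw [← hmul, inv_mul_cancel, hone])
  refine ⟨MonoidHom.mk' pe fun g h => AlgEquiv.ext fun q => AlgHom.congr_fun (hmul g h) q, hp,
    fun g i => ?_⟩
  show p₀ g (X i) ∈ _
  simpa [p₀] using hl g i

theorem inl_injective' : Function.Injective
    ((IsScalarTower.toAlgHom k (MvPolynomial (α ⊕ β) k) (_root_.InvFld.Fld (α ⊕ β) k)).comp
      (rename Sum.inl : MvPolynomial α k →ₐ[k] MvPolynomial (α ⊕ β) k)) :=
  (IsFractionRing.injective (MvPolynomial (α ⊕ β) k) _).comp (rename_injective _ Sum.inl_injective)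

variable (k α β) in
/-- The left inclusion of function fields. -/
def inlHom : _root_.InvFld.Fld α k →ₐ[k] _root_.InvFld.Fld (α ⊕ β) k :=
  IsFractionRing.liftAlgHom
    (g := (IsScalarTower.toAlgHom k (MvPolynomial (α ⊕ β) k) (_root_.InvFld.Fld (α ⊕ β) k)).comp
      (rename Sum.inl))
    inl_injective'

theorem inlHom_algebraMap (q : MvPolynomial α k) :
    inlHom k α β (algebraMap _ _ q) = algebraMap (MvPolynomial (α ⊕ β) k) _ (rename Sum.inl q) := by
  exact IsFractionRing.lift_algebraMap inl_injective' q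

theorem inr_injective' : Function.Injective
    ((IsScalarTower.toAlgHom k (MvPolynomial (α ⊕ β) k) (_root_.InvFld.Fld (α ⊕ β) k)).comp
      (rename Sum.inr : MvPolynomial β k →ₐ[k] MvPolynomial (α ⊕ β) k)) :=
  (IsFractionRing.injective (MvPolynomial (α ⊕ β) k) _).comp (rename_injective _ Sum.inr_injective)

variable (k α β) in
/-- The right inclusion of function fields. -/
def inrHom : _root_.InvFld.Fld β k →ₐ[k] _root_.InvFld.Fld (α ⊕ β) k :=
  IsFractionRing.liftAlgHom
    (g := (IsScalarTower.toAlgHom k (MvPolynomial (α ⊕ β) k) (_root_.InvFld.Fld (α ⊕ β) k)).comp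
      (rename Sum.inr))
    inr_injective'

theorem inrHom_algebraMap (q : MvPolynomial β k) :
    inrHom k α β (algebraMap _ _ q) = algebraMap (MvPolynomial (α ⊕ β) k) _ (rename Sum.inr q) := by
  exact IsFractionRing.lift_algebraMap inr_injective' q

variable (k) in
theorem algebraicIndependent_X :
    AlgebraicIndependent k fun i : α => (_root_.InvFld.X i : _root_.InvFld.Fld α k) :=
  (MvPolynomial.algebraicIndependent_X α k).map' (f := IsScalarTower.toAlgHom k (MvPolynomial α k) _)
    (IsFractionRing.injective _ _)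

theorem adjoin_X_eq_top :
    IntermediateField.adjoin k (Set.range fun i : α => (_root_.InvFld.X i : _root_.InvFld.Fld α k)) = ⊤ := by
  refine eq_top_iff.2 fun a _ => ?_
  obtain ⟨p, q, -, rfl⟩ := IsFractionRing.div_surjective (MvPolynomial α k) a
  have key : ∀ p : MvPolynomial α k, algebraMap _ (_root_.InvFld.Fld α k) p ∈
      IntermediateField.adjoin k (Set.range fun i : α => (_root_.InvFld.X i : _root_.InvFld.Fld α k)) := fun p => by
    induction p using MvPolynomial.induction_on with
    | C a =>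
      rw [← MvPolynomial.algebraMap_eq, ← IsScalarTower.algebraMap_apply]
      exact IntermediateField.algebraMap_mem _ a
    | add p q hp hq => rw [map_add]; exact add_mem hp hq
    | mul_X p i hp => rw [map_mul]; exact mul_mem hp (IntermediateField.subset_adjoin k _ ⟨i, rfl⟩)
  exact div_mem (key p) (key q)

/-- Variables outside a subfield of generators are independent and generate. -/
theorem indep_gen_of_split {γ : Type*} {M L : Type*} [Field M] [Field L] [Algebra k M] [Algebra k L]
    [Algebra M L] [IsScalarTower k M L] {x : α → L} {y : γ → L}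
    (hxy : AlgebraicIndependent k (Sum.elim y x))
    (hgen : IntermediateField.adjoin k (Set.range x ∪ Set.range y) = ⊤)
    (hM : (IsScalarTower.toAlgHom k M L).fieldRange = IntermediateField.adjoin k (Set.range x)) :
    AlgebraicIndependent M y ∧ IntermediateField.adjoin M (Set.range y) = ⊤ := by
  have h := IntermediateField.algebraicIndependent_adjoin_iff.2 (AlgebraicIndependent.sumElim_iff.1 hxy).2
  rw [← hM] at h
  constructor
  · let f : M →+* (IsScalarTower.toAlgHom k M L).fieldRange :=
      (IsScalarTower.toAlgHom k M L).rangeRestrictField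
    let : Algebra M (IsScalarTower.toAlgHom k M L).fieldRange := f.toAlgebra
    have : IsScalarTower M (IsScalarTower.toAlgHom k M L).fieldRange L :=
      IsScalarTower.of_algebraMap_eq fun x => by rw [RingHom.algebraMap_toAlgebra]; rfl
    exact h.restrictScalars f.injective
  · refine eq_top_iff.2 ?_
    have : IntermediateField.adjoin k (Set.range x ∪ Set.range y) ≤
        (IntermediateField.adjoin M (Set.range y)).restrictScalars k := by
      rw [IntermediateField.adjoin_le_iff, Set.union_subset_iff]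
      refine ⟨?_, IntermediateField.subset_adjoin M _⟩
      rintro a ha
      have : a ∈ (IsScalarTower.toAlgHom k M L).fieldRange :=
        hM ▸ IntermediateField.subset_adjoin k _ ha
      obtain ⟨b, rfl⟩ := this
      exact IntermediateField.algebraMap_mem _ b
    rw [hgen] at this
    intro a _
    exact this IntermediateField.mem_top

theorem inlHom_fieldRange :
    (inlHom k α β).fieldRange =
      IntermediateField.adjoin k (Set.range fun i : α => (_root_.InvFld.X (Sum.inl i) : _root_.InvFld.Fld (α ⊕ β) k)) := by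
  rw [AlgHom.fieldRange_eq_map, ← adjoin_X_eq_top, IntermediateField.adjoin_map, ← Set.range_comp]
  congr 2
  funext i
  exact (inlHom_algebraMap _).trans (by simp)

theorem inrHom_fieldRange :
    (inrHom k α β).fieldRange =
      IntermediateField.adjoin k (Set.range fun i : β => (_root_.InvFld.X (Sum.inr i) : _root_.InvFld.Fld (α ⊕ β) k)) := by
  rw [AlgHom.fieldRange_eq_map, ← adjoin_X_eq_top, IntermediateField.adjoin_map, ← Set.range_comp]
  congr 2
  funext i
  exact (inrHom_algebraMap _).trans (by simp)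

/-- The product of two linear actions. -/
theorem exists_prodHom {G : Type*} [Group G]
    {f : G →* (_root_.InvFld.Fld α k ≃ₐ[k] _root_.InvFld.Fld α k)} (hf : IsLinearHom f)
    {f' : G →* (_root_.InvFld.Fld β k ≃ₐ[k] _root_.InvFld.Fld β k)} (hf' : IsLinearHom f') :
    ∃ ρ : G →* (_root_.InvFld.Fld (α ⊕ β) k ≃ₐ[k] _root_.InvFld.Fld (α ⊕ β) k),
      (∀ g a, ρ g (inlHom k α β a) = inlHom k α β (f g a)) ∧
      ∀ g a, ρ g (inrHom k α β a) = inrHom k α β (f' g a) := by
  obtain ⟨p, hp, -⟩ := exists_polyHom hf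
  obtain ⟨p', hp', -⟩ := exists_polyHom hf'
  let s : G → (MvPolynomial (α ⊕ β) k →ₐ[k] MvPolynomial (α ⊕ β) k) := fun g =>
    aeval (Sum.elim (fun i => rename Sum.inl (p g (X i))) fun j => rename Sum.inr (p' g (X j)))
  have hl : ∀ g q, s g (rename Sum.inl q) = rename Sum.inl (p g q) := fun g q =>
    AlgHom.congr_fun (show (s g).comp (rename Sum.inl) = (rename Sum.inl).comp (p g).toAlgHom from
      MvPolynomial.algHom_ext fun i => by simp [s]) q
  have hr : ∀ g q, s g (rename Sum.inr q) = rename Sum.inr (p' g q) := fun g q =>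
    AlgHom.congr_fun (show (s g).comp (rename Sum.inr) = (rename Sum.inr).comp (p' g).toAlgHom from
      MvPolynomial.algHom_ext fun i => by simp [s]) q
  have hX : ∀ (i : α ⊕ β), (X i : MvPolynomial (α ⊕ β) k) =
      Sum.elim (fun i => rename Sum.inl (X i)) (fun j => rename Sum.inr (X j)) i := by
    rintro (i | j) <;> simp
  have hone : s 1 = AlgHom.id k _ := MvPolynomial.algHom_ext fun i => by
    rw [hX i]; rcases i with i | j <;> simp only [Sum.elim_inl, Sum.elim_inr, hl, hr, map_one] <;> rfl
  have hmul : ∀ g h, s (g * h) = (s g).comp (s h) := fun g h => MvPolynomial.algHom_ext fun i => by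
    rw [hX i]
    rcases i with i | j <;>
      simp only [Sum.elim_inl, Sum.elim_inr, AlgHom.comp_apply, hl, hr, map_mul] <;> rfl
  let se : G → (MvPolynomial (α ⊕ β) k ≃ₐ[k] MvPolynomial (α ⊕ β) k) := fun g =>
    AlgEquiv.ofAlgHom (s g) (s g⁻¹) (by rw [← hmul, mul_inv_cancel, hone])
      (by rw [← hmul, inv_mul_cancel, hone])
  let F := fun g => IsFractionRing.algEquivOfAlgEquiv (K := _root_.InvFld.Fld (α ⊕ β) k)
    (L := _root_.InvFld.Fld (α ⊕ β) k) (se g)
  have hF : ∀ g q, F g (algebraMap _ _ q) = algebraMap _ _ (s g q) := fun g q =>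
    IsFractionRing.algEquivOfAlgEquiv_algebraMap _ q
  refine ⟨MonoidHom.mk' F fun g h => AlgEquiv.coe_toAlgHom_injective (IsLocalization.algHom_ext
    (nonZeroDivisors (MvPolynomial (α ⊕ β) k)) (AlgHom.ext fun q => ?_)), fun g a => ?_, fun g a => ?_⟩
  · show F (g * h) (algebraMap _ _ q) = F g (F h (algebraMap _ _ q))
    rw [hF, hF, hF, hmul]
    rfl
  · obtain ⟨q, r, -, rfl⟩ := IsFractionRing.div_surjective (MvPolynomial α k) a
    show F g _ = _
    simp only [map_div₀, inlHom_algebraMap, hF, hl, ← hp]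
  · obtain ⟨q, r, -, rfl⟩ := IsFractionRing.div_surjective (MvPolynomial β k) a
    show F g _ = _
    simp only [map_div₀, inrHom_algebraMap, hF, hr, ← hp']

/-- One side of the comparison. -/
theorem exists_param_of_split {G : Type*} [Group G] [Finite G] {m : ℕ} {M L : Type*} [Field M] [Field L]
    [Algebra k M] [Algebra k L] (i : M →ₐ[k] L) (f : G →* (M ≃ₐ[k] M)) (ρ : G →* (L ≃ₐ[k] L))
    (hf : Function.Injective f) (hcompat : ∀ g a, ρ g (i a) = i (f g a))
    (F : IntermediateField k M) (hF : ∀ a, a ∈ F ↔ ∀ g, f g a = a)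
    {γ : Type*} {x : γ → L} (y : Fin m → L) (hxy : AlgebraicIndependent k (Sum.elim y x))
    (hgen : IntermediateField.adjoin k (Set.range x ∪ Set.range y) = ⊤)
    (hM : i.fieldRange = IntermediateField.adjoin k (Set.range x))
    (hspan : ∀ g j, ρ g (y j) ∈ Submodule.span k (Set.range y)) :
    ∃ φ : _root_.InvFld.Fld (Fin m) F →ₐ[k] L, ∀ a, a ∈ Set.range φ ↔ ∀ g, ρ g a = a := by
  let : Algebra M L := i.toRingHom.toAlgebra
  have : IsScalarTower k M L := IsScalarTower.of_algebraMap_eq fun c => (i.commutes c).symm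
  have hM' : (IsScalarTower.toAlgHom k M L).fieldRange = IntermediateField.adjoin k (Set.range x) := by
    rw [← hM]; rfl
  obtain ⟨hy, hgen'⟩ := indep_gen_of_split hxy hgen hM'
  obtain ⟨φ, hφ⟩ := exists_frame ρ f (F := F) (fun g a => hcompat g a) hf
    (fun a => by
      rw [← hF]
      exact ⟨fun ⟨b, hb⟩ => hb ▸ b.2, fun ha => ⟨⟨a, ha⟩, rfl⟩⟩)
    y hy hgen' (fun g j => Submodule.span_subset_span k M _ (hspan g j))
  exact ⟨φ.restrictScalars k, hφ⟩

/-- No-name lemma: function fields of faithful linear representations are stably equivalent. -/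
theorem exists_stable_equiv {G : Type*} [Group G] [Finite G] {n m : ℕ}
    {f : G →* (_root_.InvFld.Fld (Fin n) k ≃ₐ[k] _root_.InvFld.Fld (Fin n) k)} (hf : IsLinearHom f)
    (hfi : Function.Injective f)
    {f' : G →* (_root_.InvFld.Fld (Fin m) k ≃ₐ[k] _root_.InvFld.Fld (Fin m) k)} (hf' : IsLinearHom f')
    (hfi' : Function.Injective f')
    (F : IntermediateField k (_root_.InvFld.Fld (Fin n) k)) (hF : ∀ a, a ∈ F ↔ ∀ g, f g a = a)
    (F' : IntermediateField k (_root_.InvFld.Fld (Fin m) k)) (hF' : ∀ a, a ∈ F' ↔ ∀ g, f' g a = a) :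
    Nonempty (_root_.InvFld.Fld (Fin m) F ≃ₐ[k] _root_.InvFld.Fld (Fin n) F') := by
  obtain ⟨ρ, hl, hr⟩ := exists_prodHom hf hf'
  let L := _root_.InvFld.Fld (Fin n ⊕ Fin m) k
  let x : Fin n → L := fun i => _root_.InvFld.X (Sum.inl i)
  let y : Fin m → L := fun j => _root_.InvFld.X (Sum.inr j)
  have hall : AlgebraicIndependent k (Sum.elim x y) := by
    have h := algebraicIndependent_X k (α := Fin n ⊕ Fin m)
    convert h using 1
    funext i; rcases i with i | i <;> rfl
  have hgen : IntermediateField.adjoin k (Set.range x ∪ Set.range y) = ⊤ := by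
    rw [← adjoin_X_eq_top]
    congr 1
    ext a
    constructor
    · rintro (⟨i, rfl⟩ | ⟨j, rfl⟩) <;> exact ⟨_, rfl⟩
    · rintro ⟨i | j, rfl⟩
      exacts [Or.inl ⟨i, rfl⟩, Or.inr ⟨j, rfl⟩]
  have hspanr : ∀ g j, ρ g (y j) ∈ Submodule.span k (Set.range y) := fun g j => by
    have h : inrHom k (Fin n) (Fin m) ∘ _root_.InvFld.X = y := by
      funext i; exact (inrHom_algebraMap _).trans (by simp [y])
    rw [← congr_fun h j, Function.comp_apply, hr, ← h, Set.range_comp]
    erw [← Submodule.map_span (inrHom k (Fin n) (Fin m)).toLinearMap]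
    exact ⟨_, hf' g j, rfl⟩
  have hspanl : ∀ g i, ρ g (x i) ∈ Submodule.span k (Set.range x) := fun g i => by
    have h : inlHom k (Fin n) (Fin m) ∘ _root_.InvFld.X = x := by
      funext i; exact (inlHom_algebraMap _).trans (by simp [x])
    rw [← congr_fun h i, Function.comp_apply, hl, ← h, Set.range_comp]
    erw [← Submodule.map_span (inlHom k (Fin n) (Fin m)).toLinearMap]
    exact ⟨_, hf g i, rfl⟩
  have hall' : AlgebraicIndependent k (Sum.elim y x) := by
    have := hall.comp (Equiv.sumComm (Fin m) (Fin n)) (Equiv.injective _)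
    convert this using 1
    funext i; rcases i with i | i <;> rfl
  obtain ⟨φ, hφ⟩ := exists_param_of_split (inlHom k (Fin n) (Fin m)) f ρ hfi hl F hF y hall' hgen
    inlHom_fieldRange hspanr
  obtain ⟨φ', hφ'⟩ := exists_param_of_split (inrHom k (Fin n) (Fin m)) f' ρ hfi' hr F' hF' x hall
    (by rw [Set.union_comm]; exact hgen) inrHom_fieldRange hspanl
  have h : φ.fieldRange = φ'.fieldRange := SetLike.ext fun a => (hφ a).trans (hφ' a).symm
  exact ⟨(AlgEquiv.ofInjectiveField φ).trans
    ((IntermediateField.equivOfEq h).trans (AlgEquiv.ofInjectiveField φ').symm)⟩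

end Groth.Misc10.InvFld
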