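import Groth.Agent.Misc10.InvFld.Linear

/-!
# The permutation representation has purely transcendental invariants
-/

set_option autoImplicit false

open MvPolynomial

noncomputable section

namespace Groth.Misc10.InvFld

variable (k : Type*) [Field k] (n : ℕ)

theorem exists_permHom :
    ∃ f : Equiv.Perm (Fin n) →* (_root_.InvFld.Fld (Fin n) k ≃ₐ[k] _root_.InvFld.Fld (Fin n) k),
      IsLinearHom f ∧ Function.Injective f ∧
        ∀ σ q, f σ (algebraMap (MvPolynomial (Fin n) k) _ q) = algebraMap _ _ (rename σ q) := by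
  let F := fun σ : Equiv.Perm (Fin n) => IsFractionRing.algEquivOfAlgEquiv
    (K := _root_.InvFld.Fld (Fin n) k) (L := _root_.InvFld.Fld (Fin n) k) (renameEquiv k σ)
  have hF : ∀ σ q, F σ (algebraMap (MvPolynomial (Fin n) k) _ q) = algebraMap _ _ (rename σ q) :=
    fun σ q => IsFractionRing.algEquivOfAlgEquiv_algebraMap _ q
  refine ⟨MonoidHom.mk' F fun g h => AlgEquiv.coe_toAlgHom_injective (IsLocalization.algHom_ext
    (nonZeroDivisors (MvPolynomial (Fin n) k)) (AlgHom.ext fun q => ?_)), fun σ i => ?_, fun σ τ h => ?_, hF⟩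
  · show F (g * h) (algebraMap _ _ q) = F g (F h (algebraMap _ _ q))
    rw [hF, hF, hF, rename_rename]
    rfl
  · show F σ _ ∈ _
    rw [hF, rename_X]
    exact Submodule.subset_span ⟨σ i, rfl⟩
  · refine Equiv.ext fun i => ?_
    have h1 : F σ (_root_.InvFld.X i) = F τ (_root_.InvFld.X i) := by
      exact DFunLike.congr_fun h (_root_.InvFld.X i)
    rw [hF, hF, rename_X, rename_X] at h1
    exact X_injective (IsFractionRing.injective (MvPolynomial (Fin n) k) _ h1)

/-- The fixed field of the permutation representation is purely transcendental. -/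
theorem exists_indep_gen_fixed
    (f : Equiv.Perm (Fin n) →* (_root_.InvFld.Fld (Fin n) k ≃ₐ[k] _root_.InvFld.Fld (Fin n) k))
    (hf : ∀ σ q, f σ (algebraMap (MvPolynomial (Fin n) k) _ q) = algebraMap _ _ (rename σ q))
    (F : IntermediateField k (_root_.InvFld.Fld (Fin n) k)) (hF : ∀ a, a ∈ F ↔ ∀ σ, f σ a = a) :
    ∃ e : Fin n → F, AlgebraicIndependent k e ∧ IntermediateField.adjoin k (Set.range e) = ⊤ := by
  classical
  let P := MvPolynomial (Fin n) k
  have hinj := IsFractionRing.injective P (_root_.InvFld.Fld (Fin n) k)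
  let e : Fin n → F := fun i => ⟨algebraMap P _ (esymm (Fin n) k (i + 1)), (hF _).2 fun σ => by
    rw [hf, esymm_isSymmetric (Fin n) k _ σ]⟩
  have hval : ∀ p : P, ((aeval e p : F) : _root_.InvFld.Fld (Fin n) k) =
      algebraMap P _ (esymmAlgHom (Fin n) k n p).val := fun p => by
    rw [esymmAlgHom_apply]
    have h : F.val.comp (aeval e) = (IsScalarTower.toAlgHom k P (_root_.InvFld.Fld (Fin n) k)).comp
        (aeval fun i : Fin n => esymm (Fin n) k (i + 1)) :=
      MvPolynomial.algHom_ext fun i => by simp [e]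
    exact AlgHom.congr_fun h p
  have hind : AlgebraicIndependent k e := algebraicIndependent_iff_injective_aeval.2 fun p q h => by
    have h' := congrArg (Subtype.val : F → _) h
    rw [hval, hval] at h'
    exact esymmAlgHom_injective k (Fintype.card_fin n).ge (Subtype.ext (hinj h'))
  refine ⟨e, hind, eq_top_iff.2 fun a _ => ?_⟩
  obtain ⟨p, q, hq, hpq⟩ := IsFractionRing.div_surjective P (a : _root_.InvFld.Fld (Fin n) k)
  have hq0 : q ≠ 0 := nonZeroDivisors.ne_zero hq
  let Q : P := ∏ σ : Equiv.Perm (Fin n), rename σ q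
  let R : P := p * ∏ σ ∈ Finset.univ.erase (1 : Equiv.Perm (Fin n)), rename σ q
  have hQ : Q = q * ∏ σ ∈ Finset.univ.erase (1 : Equiv.Perm (Fin n)), rename σ q := by
    simp only [Q]
    rw [← Finset.mul_prod_erase _ _ (Finset.mem_univ (1 : Equiv.Perm (Fin n)))]
    congr 1
    exact rename_id_apply q
  have hQ0 : Q ≠ 0 := Finset.prod_ne_zero_iff.2 fun σ _ => by
    rw [ne_eq, map_eq_zero_iff _ (rename_injective _ σ.injective)]
    exact hq0
  have hQs : Q.IsSymmetric := fun σ => by
    simp only [Q, map_prod]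
    refine Fintype.prod_equiv (Equiv.mulLeft σ) _ _ fun τ => ?_
    rw [rename_rename]
    rfl
  have ha : (a : _root_.InvFld.Fld (Fin n) k) = algebraMap P _ R / algebraMap P _ Q := by
    rw [← hpq, hQ]
    simp only [R, map_mul]
    rw [mul_div_mul_right]
    intro h0
    apply hQ0
    apply hinj
    rw [hQ, map_mul, h0, mul_zero, map_zero]
  have hRs : R.IsSymmetric := fun σ => by
    have h1 := (hF _).1 a.2 σ
    rw [ha, map_div₀, hf, hf, hQs σ, div_left_inj' ((map_ne_zero_iff _ hinj).2 hQ0)] at h1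
    exact hinj h1
  obtain ⟨r, hr⟩ := esymmAlgHom_surjective k (Fintype.card_fin n).le ⟨R, hRs⟩
  obtain ⟨s, hs⟩ := esymmAlgHom_surjective k (Fintype.card_fin n).le ⟨Q, hQs⟩
  have : a = aeval e r / aeval e s := Subtype.ext (by
    show (a : _root_.InvFld.Fld (Fin n) k) = ((aeval e r / aeval e s : F) : _root_.InvFld.Fld (Fin n) k)
    push_cast
    rw [ha, hval, hval, hr, hs])
  rw [this]
  exact (IntermediateField.mem_adjoin_range_iff k e _).2 ⟨r, s, rfl⟩

end Groth.Misc10.InvFld
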